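import Cfsg.Agent.ThreeSizes.Count
import Cfsg.Agent.PCompl.ClassSize
import Cfsg.Agent.Constrained.HallHigman
import Cfsg.Agent.Constrained.PSolvable

/-!
A finite group with abelian Sylow 2-subgroups and a subgroup of odd order and 2-power index is
solvable (no classification of groups with abelian Sylow 2-subgroups is used). In a minimal
counterexample the Sylow 2-subgroups are TI with normalizer containing all involution centralizers,
and an element of odd order inverted by an involution outside the normalizer centralizes an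
involution inside: the parity of its fixed point set then gives a contradiction.
-/

set_option autoImplicit false

open scoped commutatorElement

universe u

namespace CfsgLib.AbelianTwoPower

variable {X : Type u} [Group X] [Finite X]

/-- The data of a minimal counterexample. -/
structure Setup (T : Sylow 2 X) (H : Subgroup X) : Prop where
  comm : ∀ a ∈ (T : Subgroup X), ∀ b ∈ (T : Subgroup X), Commute a b
  odd : Odd (Nat.card H)
  fact : ∀ g : X, ∃ t ∈ (T : Subgroup X), ∃ h ∈ H, g = t * h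
  disj : ∀ g : X, g ∈ (T : Subgroup X) → g ∈ H → g = 1
  local_le : ∀ s ∈ (T : Subgroup X), s ≠ 1 →
    Subgroup.centralizer ({s} : Set X) ≤ Subgroup.normalizer ((T : Subgroup X) : Set X)
  notNormal : ¬ (T : Subgroup X).Normal

/-- Number of points parity under an involution. -/
theorem even_card_of_involutive {α : Type*} [DecidableEq α] (F : Finset α) (f : α → α)
    (hmem : ∀ a ∈ F, f a ∈ F) (hinv : ∀ a ∈ F, f (f a) = a) (hne : ∀ a ∈ F, f a ≠ a) :
    Even F.card := by
  have h := Finset.sum_involution (s := F) (f := fun _ => (1 : ZMod 2)) (fun a _ => f a)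
    (fun a _ => by decide) (fun a ha _ => hne a ha) (fun a ha => hmem a ha) (fun a ha => hinv a ha)
  rw [Finset.sum_const, nsmul_one, ZMod.natCast_eq_zero_iff_even] at h
  exact h

theorem exists_pow_involution {w : X} (h : Even (orderOf w)) (hw : 0 < orderOf w) :
    ∃ n : ℕ, w ^ n ≠ 1 ∧ w ^ n * w ^ n = 1 := by
  obtain ⟨n, hn⟩ := h
  refine ⟨n, fun h1 => ?_, by rw [← pow_add, ← hn, pow_orderOf_eq_one]⟩
  have := Nat.le_of_dvd (by omega) (orderOf_dvd_of_pow_eq_one h1)
  omega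

theorem conj_eq_inv_of_involutions {s v : X} (hs : s * s = 1) (hv : v * v = 1) (n : ℕ) :
    s * (s * v) ^ n * s⁻¹ = ((s * v) ^ n)⁻¹ := by
  have hs' : s⁻¹ = s := inv_eq_of_mul_eq_one_right hs
  have hv' : v⁻¹ = v := inv_eq_of_mul_eq_one_right hv
  rw [← conj_pow, ← inv_pow]
  congr 1
  rw [mul_inv_rev, hs', hv', ← mul_assoc, hs, one_mul]

theorem commute_of_involutions {s v : X} (hs : s * s = 1) (hv : v * v = 1) {n : ℕ}
    (hn : (s * v) ^ n * (s * v) ^ n = 1) : Commute ((s * v) ^ n) s ∧ Commute ((s * v) ^ n) v := by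
  have h1 := conj_eq_inv_of_involutions hs hv n
  rw [inv_eq_of_mul_eq_one_right hn] at h1
  have hcs : Commute ((s * v) ^ n) s := (mul_inv_eq_iff_eq_mul.1 h1).symm
  refine ⟨hcs, ?_⟩
  have h5 := hcs.inv_right.mul_right (Commute.pow_self (s * v) n)
  rwa [inv_mul_cancel_left] at h5

variable {T : Sylow 2 X} {H : Subgroup X}

local notation "M" => Subgroup.normalizer ((T : Subgroup X) : Set X)

omit [Finite X] in
theorem le_normalizer' : (T : Subgroup X) ≤ M := Subgroup.le_normalizer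

theorem smul_eq_self_iff {g : X} : g • T = T ↔ g ∈ M := Sylow.smul_eq_iff_mem_normalizer

theorem mem_of_normalizer {Q : Sylow 2 X} {x : X}
    (hx : x ∈ Subgroup.normalizer ((Q : Subgroup X) : Set X)) (hxp : x * x = 1) :
    x ∈ (Q : Subgroup X) := by
  have hP : IsPGroup 2 (Subgroup.zpowers x) :=
    CfsgLib.ThreeSizes.isPGroup_zpowers Nat.prime_two ⟨1, by rw [pow_one, pow_two, hxp]⟩
  have hsup : IsPGroup 2 (Subgroup.zpowers x ⊔ (Q : Subgroup X) : Subgroup X) :=
    hP.to_sup_of_normal_right' Q.isPGroup' (Subgroup.zpowers_le.2 hx)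
  exact (Q.3 hsup le_sup_right).le (Subgroup.mem_sup_left (Subgroup.mem_zpowers x))

theorem Setup.inf_eq (S : Setup T H) {g s : X} (hs : s ∈ (T : Subgroup X))
    (hsg : s ∈ ((g • T : Sylow 2 X) : Subgroup X)) (h1 : s ≠ 1) : g • T = T := by
  have hle : ((g • T : Sylow 2 X) : Subgroup X) ≤ Subgroup.centralizer ({s} : Set X) := by
    intro a ha
    rw [Sylow.coe_subgroup_smul, Subgroup.mem_pointwise_smul_iff_inv_smul_mem] at ha hsg
    rw [Subgroup.mem_centralizer_singleton_iff]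
    have := S.comm _ ha _ hsg
    have h2 := congrArg (fun z => MulAut.conj g • z) this.eq
    simpa [smul_mul', mul_assoc] using h2
  have hsup : IsPGroup 2 (((g • T : Sylow 2 X) : Subgroup X) ⊔ (T : Subgroup X) : Subgroup X) :=
    (g • T).isPGroup'.to_sup_of_normal_right' T.isPGroup' (hle.trans (S.local_le s hs h1))
  exact Sylow.ext (le_antisymm
    (le_sup_left.trans (T.3 hsup le_sup_right).le)
    (le_sup_right.trans ((g • T).3 hsup le_sup_left).le))

/-- An involution fixes exactly the Sylow subgroup containing it. -/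
theorem Setup.fixed_unique (S : Setup T H) {z : X} (hz : z ∈ (T : Subgroup X)) (hz1 : z ≠ 1)
    (hzz : z * z = 1) {Q : Sylow 2 X} (hQ : z • Q = Q) : Q = T := by
  obtain ⟨g, rfl⟩ := MulAction.exists_smul_eq X T Q
  exact S.inf_eq hz (mem_of_normalizer (Sylow.smul_eq_iff_mem_normalizer.1 hQ) hzz) hz1

theorem Setup.normalizer_mem_of_sq (S : Setup T H) {x : X} (hx : x ∈ M) (hxp : x * x = 1) :
    x ∈ (T : Subgroup X) := mem_of_normalizer hx hxp

/-- Involutions inside and outside `N(T)` are conjugate. -/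
theorem Setup.isConj (S : Setup T H) {s v : X} (hs : s ∈ (T : Subgroup X)) (hs1 : s ≠ 1)
    (hss : s * s = 1) (hv1 : v ≠ 1) (hvv : v * v = 1) (hvM : v ∉ M) : IsConj s v := by
  set w := s * v with hw
  rcases Nat.even_or_odd (orderOf w) with heven | hodd
  · exfalso
    obtain ⟨n, hn1, hnn⟩ := exists_pow_involution heven (orderOf_pos w)
    obtain ⟨hcs, hcv⟩ := commute_of_involutions hss hvv hnn
    have hwT : w ^ n ∈ (T : Subgroup X) := mem_of_normalizer
      (S.local_le s hs hs1 (Subgroup.mem_centralizer_singleton_iff.2 hcs.eq)) hnn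
    exact hvM (S.local_le _ hwT hn1 (Subgroup.mem_centralizer_singleton_iff.2 hcv.eq.symm))
  · obtain ⟨k, hk⟩ := hodd
    refine isConj_iff.2 ⟨w ^ k * s, ?_⟩
    have h1 := conj_eq_inv_of_involutions hss hvv k
    rw [← hw] at h1
    have h2 : s * (w ^ k)⁻¹ = w ^ k * s := by
      have := congrArg Inv.inv h1
      rw [inv_inv, mul_inv_rev, mul_inv_rev, inv_inv] at this
      calc s * (w ^ k)⁻¹ = (s * ((w ^ k)⁻¹ * s⁻¹)) * s := by group
        _ = w ^ k * s := by rw [this]
    have hs' : s⁻¹ = s := inv_eq_of_mul_eq_one_right hss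
    calc w ^ k * s * s * (w ^ k * s)⁻¹ = w ^ k * (s * (w ^ k)⁻¹) := by
          rw [mul_inv_rev, hs', mul_assoc (w ^ k) s s, hss, mul_one]
      _ = w ^ k * (w ^ k * s) := by rw [h2]
      _ = v := by
          have h3 : w ^ (2 * k + 1) = 1 := by rw [← hk, pow_orderOf_eq_one]
          rw [pow_succ, two_mul, pow_add] at h3
          calc w ^ k * (w ^ k * s) = w ^ k * w ^ k * w * v⁻¹ := by rw [hw]; group
            _ = v⁻¹ := by rw [h3, one_mul]
            _ = v := inv_eq_of_mul_eq_one_right hvv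

/-- An involution fixed by an automorphism of odd order, being the only one, forces triviality. -/
theorem eq_self_of_unique_involution {A : Type*} [CommGroup A] (s : A) (hA : ∀ a : A, ∃ i : ℕ, a ^ 2 ^ i = 1)
    (huniq : ∀ a : A, a * a = 1 → a = 1 ∨ a = s) (f : MulAut A) {n : ℕ} (hn : Odd n) (hf : f ^ n = 1)
    (hfs : f s = s) : f = 1 := by
  ext a
  obtain ⟨i, hi⟩ := hA a
  induction i generalizing a with
  | zero => rw [pow_zero, pow_one] at hi; simp [hi]
  | succ i ih =>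
    have ha2 : f (a ^ 2) = a ^ 2 := by
      have := ih (a ^ 2) (by rw [← pow_mul, ← pow_succ']; exact hi)
      simpa using this
    set d := f a * a⁻¹ with hd
    have hfa : f a = d * a := by rw [hd, inv_mul_cancel_right]
    have hdd : d * d = 1 := by
      rw [hd, mul_mul_mul_comm, ← map_mul, ← mul_inv, ← pow_two, ha2, mul_inv_cancel]
    have hfd : f d = d := by
      rcases huniq d hdd with e | e <;> rw [e]
      · exact map_one f
      · exact hfs
    have hit : ∀ j : ℕ, (f ^ j) a = d ^ j * a := by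
      intro j
      induction j with
      | zero => simp
      | succ j ihj =>
        rw [pow_succ', MulAut.mul_apply, ihj, map_mul, map_pow, hfd, hfa, ← mul_assoc, ← pow_succ]
    have h1 := hit n
    rw [hf] at h1
    obtain ⟨k, hk⟩ := hn
    rw [hk, pow_succ, pow_mul, pow_two, hdd, one_pow, one_mul] at h1
    simp only [MulAut.one_apply] at h1 ⊢
    rw [hfa, ← h1]

theorem Setup.odd_orderOf (S : Setup T H) {d : X} (hd : d ∈ H) : Odd (orderOf d) :=
  S.odd.of_dvd_nat (H.orderOf_dvd_natCard hd)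

theorem Setup.isConj_inv (S : Setup T H) {s t : X} (hs : s ∈ (T : Subgroup X)) (hs1 : s ≠ 1)
    (hss : s * s = 1) (ht : t ∈ (T : Subgroup X)) (ht1 : t ≠ 1) (htt : t * t = 1) :
    ∃ d ∈ H, d ∈ M ∧ d * s * d⁻¹ = t := by
  obtain ⟨g, hg⟩ : ∃ g : X, g ∉ M := by
    by_contra h
    push Not at h
    exact S.notNormal (Subgroup.normalizer_eq_top_iff.1 (eq_top_iff.2 fun g _ => h g))
  have hv : g * s * g⁻¹ ∉ M := fun h => hg <| smul_eq_self_iff.1 (S.inf_eq
    (mem_of_normalizer h (by rw [show g * s * g⁻¹ * (g * s * g⁻¹) = g * (s * s) * g⁻¹ by group,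
      hss, mul_one, mul_inv_cancel]))
    (by rw [Sylow.coe_subgroup_smul]; exact Subgroup.smul_mem_pointwise_smul s (MulAut.conj g) _ hs)
    (fun e => hs1 (conj_eq_one_iff.1 e)))
  obtain ⟨c, hc⟩ := isConj_iff.1 ((isConj_iff.2 ⟨g, rfl⟩ : IsConj s (g * s * g⁻¹)).trans
    (S.isConj ht ht1 htt (fun e => hs1 (conj_eq_one_iff.1 e))
      (by rw [show g * s * g⁻¹ * (g * s * g⁻¹) = g * (s * s) * g⁻¹ by group,
        hss, mul_one, mul_inv_cancel]) hv).symm)
  haveI : IsMulCommutative (T : Subgroup X) :=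
    ⟨⟨fun a b => Subtype.ext (S.comm a a.2 b b.2).eq⟩⟩
  obtain ⟨m, hm, hme⟩ := Sylow.conj_eq_normalizer_conj_of_mem T s c⁻¹ hs
    (by rw [inv_inv, hc]; exact ht)
  rw [inv_inv, hc] at hme
  obtain ⟨t₀, ht₀, d, hd, he⟩ := S.fact m⁻¹
  have hdM : d ∈ M := by
    have : d = t₀⁻¹ * m⁻¹ := by rw [he, inv_mul_cancel_left]
    rw [this]
    exact mul_mem (inv_mem (le_normalizer' ht₀)) (inv_mem hm)
  refine ⟨d, hd, hdM, ?_⟩
  have h1 : t₀ * (d * s * d⁻¹) * t₀⁻¹ = t := by
    rw [hme, ← inv_inv m, he]; group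
  have h2 : d * s * d⁻¹ ∈ (T : Subgroup X) := (Subgroup.mem_normalizer_iff.1 hdM s).1 hs
  rwa [(S.comm t₀ ht₀ _ h2).eq, mul_inv_cancel_right] at h1

theorem Setup.exists_involution (S : Setup T H) (hT : (T : Subgroup X) ≠ ⊥) {t : X}
    (ht : t ∈ (T : Subgroup X)) (ht1 : t ≠ 1) :
    ∃ n : ℕ, t ^ n ≠ 1 ∧ t ^ n * t ^ n = 1 := by
  refine exists_pow_involution ?_ (orderOf_pos t)
  obtain ⟨j, hj⟩ := CfsgLib.ThreeSizes.isEl_orderOf Nat.prime_two
    (CfsgLib.TwoRegular.IsEl.of_mem_pGroup T.isPGroup' ht)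
  rw [hj]
  refine (Nat.even_pow).2 ⟨even_two, fun h0 => ht1 ?_⟩
  rw [h0, pow_zero] at hj
  exact orderOf_eq_one_iff.1 hj

/-- There are two involutions in `T` unless `T` is central in its normalizer. -/
theorem Setup.exists_two (S : Setup T H) (hb : ¬ M ≤ Subgroup.centralizer ((T : Subgroup X) : Set X))
    (hT : (T : Subgroup X) ≠ ⊥) :
    ∃ s t : X, s ∈ (T : Subgroup X) ∧ t ∈ (T : Subgroup X) ∧ s ≠ 1 ∧ t ≠ 1 ∧ s * s = 1 ∧
      t * t = 1 ∧ s ≠ t := by
  obtain ⟨⟨t₀, ht₀⟩, ht₀1⟩ := Subgroup.ne_bot_iff_exists_ne_one.1 hT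
  obtain ⟨n, hn1, hnn⟩ := S.exists_involution hT ht₀ (fun e => ht₀1 (Subtype.ext e))
  set s := t₀ ^ n with hs
  have hsT : s ∈ (T : Subgroup X) := pow_mem ht₀ n
  by_contra hcon
  push Not at hcon
  apply hb
  intro m hm
  obtain ⟨t', ht', d, hd, he⟩ := S.fact m
  have hdM : d ∈ M := by
    have : d = t'⁻¹ * m := by rw [he, inv_mul_cancel_left]
    rw [this]
    exact mul_mem (inv_mem (le_normalizer' ht')) hm
  letI : CommGroup (T : Subgroup X) :=
    { (inferInstance : Group (T : Subgroup X)) with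
      mul_comm := fun a b => Subtype.ext (S.comm a a.2 b b.2).eq }
  let f : MulAut (T : Subgroup X) :=
    { toFun := fun a => ⟨d * a * d⁻¹, (Subgroup.mem_normalizer_iff.1 hdM a).1 a.2⟩
      invFun := fun a => ⟨d⁻¹ * a * d⁻¹⁻¹, (Subgroup.mem_normalizer_iff.1 (inv_mem hdM) a).1 a.2⟩
      left_inv := fun a => Subtype.ext (by simp [mul_assoc])
      right_inv := fun a => Subtype.ext (by simp [mul_assoc])
      map_mul' := fun a b => Subtype.ext (by simp [mul_assoc]) }
  have hpow : ∀ (j : ℕ) (a : (T : Subgroup X)), (((f ^ j) a : (T : Subgroup X)) : X) = d ^ j * a * (d ^ j)⁻¹ := by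
    intro j
    induction j with
    | zero => simp
    | succ j ih =>
      intro a
      rw [pow_succ', MulAut.mul_apply]
      change d * ((f ^ j) a : (T : Subgroup X)) * d⁻¹ = _
      rw [ih a, pow_succ' d]; group
  have huniq : ∀ a : (T : Subgroup X), a * a = 1 → a = 1 ∨ a = ⟨s, hsT⟩ := by
    intro a ha
    by_cases ha1 : a = 1
    · exact Or.inl ha1
    · exact Or.inr (Subtype.ext (hcon s a hsT a.2 hn1 (fun e => ha1 (Subtype.ext e)) hnn
        (congrArg Subtype.val ha)).symm)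
  have hf : f = 1 := eq_self_of_unique_involution ⟨s, hsT⟩
    (fun a => T.isPGroup' a) huniq f (S.odd_orderOf hd)
    (MulEquiv.ext fun a => Subtype.ext (by rw [hpow, pow_orderOf_eq_one]; simp))
    (by
      rcases huniq (f ⟨s, hsT⟩) (by rw [← map_mul, show (⟨s, hsT⟩ : (T : Subgroup X)) * ⟨s, hsT⟩ = 1
        from Subtype.ext hnn, map_one]) with e | e
      · exact absurd (congrArg Subtype.val (f.injective (e.trans (map_one f).symm))) hn1
      · exact e)
  rw [he]
  refine mul_mem (Subgroup.mem_centralizer_iff.2 fun a ha => (S.comm a ha t' ht').eq)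
    (Subgroup.mem_centralizer_iff.2 fun a ha => ?_)
  have := congrArg Subtype.val (DFunLike.congr_fun hf ⟨a, ha⟩)
  change d * a * d⁻¹ = a at this
  exact (mul_inv_eq_iff_eq_mul.1 this).symm

/-- Two involutions with the same image of `T`. -/
theorem Setup.exists_pair (S : Setup T H) {s t : X} (hs : s ∈ (T : Subgroup X))
    (ht : t ∈ (T : Subgroup X)) (hs1 : s ≠ 1) (ht1 : t ≠ 1) (hss : s * s = 1) (htt : t * t = 1)
    (hst : s ≠ t) :
    ∃ u u' : X, u ∉ M ∧ u' ∉ M ∧ u * u = 1 ∧ u' * u' = 1 ∧ u ≠ u' ∧ u • T = u' • T := by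
  classical
  haveI := Fintype.ofFinite X
  haveI := Fintype.ofFinite (Sylow 2 X)
  by_contra hcon
  push Not at hcon
  set U := Finset.univ.filter fun u : X => u * u = 1 ∧ u ∉ M with hU
  set Ω := Finset.univ.filter fun Q : Sylow 2 X => Q ≠ T with hΩ
  have h1 : U.card ≤ Ω.card := by
    refine Finset.card_le_card_of_injOn (fun u => u • T) (fun u hu => ?_) (fun u hu u' hu' e => ?_)
    · simp only [hU, hΩ, Finset.coe_filter, Finset.mem_univ, true_and, Set.mem_ofPred_eq] at hu ⊢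
      exact fun e => hu.2 (smul_eq_self_iff.1 e)
    · simp only [hU, Finset.coe_filter, Finset.mem_univ, true_and, Set.mem_ofPred_eq] at hu hu'
      by_contra hne
      exact hcon u u' hu.2 hu'.2 hu.1 hu'.1 hne e
  have h2 : 2 * Ω.card ≤ U.card := by
    have hch : ∀ Q : Sylow 2 X, ∃ g : X, g • T = Q := fun Q => MulAction.exists_smul_eq X T Q
    choose g hg using hch
    let f : Sylow 2 X → Finset X := fun Q => {g Q * s * (g Q)⁻¹, g Q * t * (g Q)⁻¹}
    have hmem : ∀ (Q : Sylow 2 X) (z : X), z ∈ f Q →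
        z ≠ 1 ∧ z * z = 1 ∧ z ∈ (Q : Subgroup X) := by
      intro Q z hz
      have key : ∀ a ∈ (T : Subgroup X), g Q * a * (g Q)⁻¹ ∈ (Q : Subgroup X) := fun a ha => by
        have := Subgroup.smul_mem_pointwise_smul a (MulAut.conj (g Q)) _ ha
        rw [← Sylow.coe_subgroup_smul, ← MulAut.conj_apply] at *
        rw [hg Q] at this
        exact this
      simp only [f, Finset.mem_insert, Finset.mem_singleton] at hz
      rcases hz with rfl | rfl
      · exact ⟨fun e => hs1 (conj_eq_one_iff.1 e), by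
          rw [show g Q * s * (g Q)⁻¹ * (g Q * s * (g Q)⁻¹) = g Q * (s * s) * (g Q)⁻¹ by group,
            hss, mul_one, mul_inv_cancel], key s hs⟩
      · exact ⟨fun e => ht1 (conj_eq_one_iff.1 e), by
          rw [show g Q * t * (g Q)⁻¹ * (g Q * t * (g Q)⁻¹) = g Q * (t * t) * (g Q)⁻¹ by group,
            htt, mul_one, mul_inv_cancel], key t ht⟩
    have hdisj : ((Ω : Finset _) : Set (Sylow 2 X)).PairwiseDisjoint f := by
      intro Q _ Q' _ hne
      rw [Function.onFun, Finset.disjoint_left]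
      intro z hz hz'
      obtain ⟨hz1, hzz, hzQ⟩ := hmem Q z hz
      obtain ⟨-, -, hzQ'⟩ := hmem Q' z hz'
      apply hne
      have h1 : g Q • T = Q := hg Q
      have hz0 : (g Q)⁻¹ * z * g Q ∈ (T : Subgroup X) := by
        rw [← h1, Sylow.coe_subgroup_smul, Subgroup.mem_pointwise_smul_iff_inv_smul_mem] at hzQ
        simpa [mul_assoc] using hzQ
      have hz0' : (g Q)⁻¹ * z * g Q ∈ ((((g Q)⁻¹ * g Q') • T : Sylow 2 X) : Subgroup X) := by
        rw [mul_smul, hg Q', Sylow.coe_subgroup_smul,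
          Subgroup.mem_pointwise_smul_iff_inv_smul_mem]
        simpa [mul_assoc] using hzQ'
      have := S.inf_eq hz0 hz0' fun e => hz1 (by
        have : z = g Q * ((g Q)⁻¹ * z * g Q) * (g Q)⁻¹ := by group
        rw [this, e, mul_one, mul_inv_cancel])
      rw [mul_smul, hg Q'] at this
      rw [← h1]
      conv_lhs => rw [← this, smul_inv_smul]
    have h3 : (Ω.biUnion f).card ≤ U.card := by
      refine Finset.card_le_card fun z hz => ?_
      obtain ⟨Q, hQ, hzQ⟩ := Finset.mem_biUnion.1 hz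
      obtain ⟨hz1, hzz, hzQm⟩ := hmem Q z hzQ
      refine Finset.mem_filter.2 ⟨Finset.mem_univ _, hzz, fun hzM => ?_⟩
      have hzT := mem_of_normalizer hzM hzz
      obtain ⟨a, ha⟩ := MulAction.exists_smul_eq X T Q
      subst ha
      exact (Finset.mem_filter.1 hQ).2 (S.inf_eq hzT hzQm hz1)
    rw [Finset.card_biUnion hdisj] at h3
    refine le_trans (le_of_eq ?_) h3
    rw [Finset.sum_congr rfl (g := fun _ => 2) fun Q _ => Finset.card_pair fun e =>
      hst (mul_left_cancel (mul_right_cancel e)), Finset.sum_const, smul_eq_mul, mul_comm]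
  have h3 : 0 < Ω.card := by
    obtain ⟨g, hg⟩ : ∃ g : X, g ∉ M := by
      by_contra h
      push Not at h
      exact S.notNormal (Subgroup.normalizer_eq_top_iff.1 (eq_top_iff.2 fun g _ => h g))
    exact Finset.card_pos.2 ⟨g • T, Finset.mem_filter.2
      ⟨Finset.mem_univ _, fun e => hg (smul_eq_self_iff.1 e)⟩⟩
  omega

/-- An element of odd order of `N(T)` is conjugate into `H` under `T`. -/
theorem Setup.exists_conj_mem (S : Setup T H) {e : X} (he : e ∈ M) (hodd : Odd (orderOf e)) :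
    ∃ τ ∈ (T : Subgroup X), τ * e * τ⁻¹ ∈ H := by
  obtain ⟨t₁, ht₁, d, hd, hed⟩ := S.fact e
  have hdM : d ∈ M := by
    have : d = t₁⁻¹ * e := by rw [hed, inv_mul_cancel_left]
    rw [this]
    exact mul_mem (inv_mem (le_normalizer' ht₁)) he
  letI : CommGroup (T : Subgroup X) :=
    { (inferInstance : Group (T : Subgroup X)) with
      mul_comm := fun a b => Subtype.ext (S.comm a a.2 b b.2).eq }
  let φ : (T : Subgroup X) →* (T : Subgroup X) :=
    { toFun := fun a => ⟨d * a * d⁻¹, (Subgroup.mem_normalizer_iff.1 hdM a).1 a.2⟩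
      map_one' := Subtype.ext (by simp)
      map_mul' := fun a b => Subtype.ext (by simp [mul_assoc]) }
  have hQmem : ∀ i : ℕ, e ^ i * (d ^ i)⁻¹ ∈ (T : Subgroup X) := by
    intro i
    induction i with
    | zero => simp
    | succ i ih =>
      have : e ^ (i + 1) * (d ^ (i + 1))⁻¹ = t₁ * (d * (e ^ i * (d ^ i)⁻¹) * d⁻¹) := by
        rw [pow_succ' e, pow_succ' d]
        nth_rewrite 1 [hed]
        group
      rw [this]
      exact mul_mem ht₁ ((Subgroup.mem_normalizer_iff.1 hdM _).1 ih)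
  set n := orderOf e with hn
  have hdn : d ^ n = 1 := by
    apply S.disj
    · have := hQmem n
      rw [pow_orderOf_eq_one, one_mul] at this
      exact inv_mem_iff.1 this
    · exact pow_mem hd n
  let Q : ℕ → (T : Subgroup X) := fun i => ⟨e ^ i * (d ^ i)⁻¹, hQmem i⟩
  have hstep : ∀ i, ⟨t₁, ht₁⟩ * φ (Q i) = Q (i + 1) := by
    intro i
    apply Subtype.ext
    change t₁ * (d * (e ^ i * (d ^ i)⁻¹) * d⁻¹) = e ^ (i + 1) * (d ^ (i + 1))⁻¹
    rw [pow_succ' e, pow_succ' d]
    nth_rewrite 2 [hed]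
    group
  have hprod : (⟨t₁, ht₁⟩ : (T : Subgroup X)) ^ n * φ (∏ i ∈ Finset.range n, Q i) =
      ∏ i ∈ Finset.range n, Q i := by
    rw [map_prod, ← Finset.card_range n, ← Finset.prod_const, Finset.card_range,
      ← Finset.prod_mul_distrib, Finset.prod_congr rfl fun i _ => hstep i]
    have h1 := Finset.prod_range_succ Q n
    have h2 := Finset.prod_range_succ' Q n
    have hQ0 : Q 0 = 1 := Subtype.ext (by simp [Q])
    have hQn : Q n = 1 := Subtype.ext (show e ^ n * (d ^ n)⁻¹ = 1 by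
      rw [hdn, hn, pow_orderOf_eq_one, inv_one, mul_one])
    rw [hQ0, mul_one] at h2
    rw [hQn, mul_one] at h1
    rw [← h2, h1]
  have hj : (Nat.card (T : Subgroup X)).Coprime n := by
    rw [T.card_eq_multiplicity]
    exact (Nat.coprime_two_left.2 hodd).pow_left _
  obtain ⟨m, hm⟩ := exists_pow_eq_self_of_coprime (x := (⟨t₁, ht₁⟩ : (T : Subgroup X))) (n := n)
    (Nat.Coprime.symm (Nat.Coprime.coprime_dvd_left
      (_root_.orderOf_dvd_natCard _) hj))
  set P := ∏ i ∈ Finset.range n, Q i with hP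
  -- `τ = P⁻ᵐ` conjugates `e` to `d`
  have hτ : (⟨t₁, ht₁⟩ : (T : Subgroup X)) * φ (P ^ m) = P ^ m := by
    calc (⟨t₁, ht₁⟩ : (T : Subgroup X)) * φ (P ^ m)
        = (⟨t₁, ht₁⟩ ^ n) ^ m * φ P ^ m := by rw [hm, map_pow]
      _ = (⟨t₁, ht₁⟩ ^ n * φ P) ^ m := (mul_pow _ _ _).symm
      _ = P ^ m := by rw [hprod]
  refine ⟨((P ^ m : (T : Subgroup X)) : X)⁻¹, inv_mem (P ^ m).2, ?_⟩
  have h1 := congrArg Subtype.val hτ
  change t₁ * (d * ((P ^ m : (T : Subgroup X)) : X) * d⁻¹) = ((P ^ m : (T : Subgroup X)) : X) at h1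
  have h2 : ((P ^ m : (T : Subgroup X)) : X)⁻¹ * e * ((P ^ m : (T : Subgroup X)) : X)⁻¹⁻¹ = d := by
    rw [inv_inv]
    calc ((P ^ m : (T : Subgroup X)) : X)⁻¹ * e * ((P ^ m : (T : Subgroup X)) : X)
        = ((P ^ m : (T : Subgroup X)) : X)⁻¹ *
            (t₁ * (d * ((P ^ m : (T : Subgroup X)) : X) * d⁻¹)) * d := by
          rw [hed]; group
      _ = d := by rw [h1, inv_mul_cancel, one_mul]
  rw [h2]
  exact hd

/-- **There is no such configuration.** -/
theorem Setup.false (S : Setup T H) (hT : (T : Subgroup X) ≠ ⊥)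
    (hb : ¬ M ≤ Subgroup.centralizer ((T : Subgroup X) : Set X)) : False := by
  classical
  haveI := Fintype.ofFinite (Sylow 2 X)
  obtain ⟨s, t, hs, ht, hs1, ht1, hss, htt, hst⟩ := S.exists_two hb hT
  obtain ⟨u₀, u₁, hu₀, hu₁, hu₀2, hu₁2, hne, heq⟩ := S.exists_pair hs ht hs1 ht1 hss htt hst
  have he₀M : u₀ * u₁ ∈ M := by
    apply smul_eq_self_iff.1
    rw [mul_smul, ← heq, ← mul_smul, hu₀2, one_smul]
  have hu₀inv : u₀⁻¹ = u₀ := inv_eq_of_mul_eq_one_right hu₀2
  have hinv₀ : u₀ * (u₀ * u₁) * u₀⁻¹ = (u₀ * u₁)⁻¹ := by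
    simpa using conj_eq_inv_of_involutions hu₀2 hu₁2 1
  have hodd : Odd (orderOf (u₀ * u₁)) := by
    rw [← Nat.not_even_iff_odd]
    intro heven
    obtain ⟨n, hn1, hnn⟩ := exists_pow_involution heven (orderOf_pos _)
    obtain ⟨-, hcv⟩ := commute_of_involutions hu₀2 hu₁2 hnn
    have hwT : (u₀ * u₁) ^ n ∈ (T : Subgroup X) := mem_of_normalizer (pow_mem he₀M n) hnn
    exact hu₁ (S.local_le _ hwT hn1 (Subgroup.mem_centralizer_singleton_iff.2 hcv.eq.symm))
  obtain ⟨τ, hτ, hτe⟩ := S.exists_conj_mem he₀M hodd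
  have hτM := le_normalizer' hτ
  set e := τ * (u₀ * u₁) * τ⁻¹ with hedef
  set u := τ * u₀ * τ⁻¹ with hudef
  have huM : u ∉ M := fun h => hu₀ (by
    have := mul_mem (mul_mem (inv_mem hτM) h) hτM
    rwa [hudef, show τ⁻¹ * (τ * u₀ * τ⁻¹) * τ = u₀ by group] at this)
  have huu : u * u = 1 := by
    rw [hudef, show τ * u₀ * τ⁻¹ * (τ * u₀ * τ⁻¹) = τ * (u₀ * u₀) * τ⁻¹ by group, hu₀2, mul_one,
      mul_inv_cancel]
  have hue : u * e * u⁻¹ = e⁻¹ := by
    rw [hedef, hudef, show τ * u₀ * τ⁻¹ * (τ * (u₀ * u₁) * τ⁻¹) * (τ * u₀ * τ⁻¹)⁻¹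
      = τ * (u₀ * (u₀ * u₁) * u₀⁻¹) * τ⁻¹ by group, hinv₀]
    group
  have heM : e ∈ M := mul_mem (mul_mem hτM he₀M) (inv_mem hτM)
  have he1 : e ≠ 1 := fun h => hne (by
    have h1 : u₀ * u₁ = 1 := conj_eq_one_iff.1 h
    rw [← hu₀inv]; exact inv_eq_of_mul_eq_one_right h1)
  have heodd : Odd (orderOf e) := by
    have : orderOf e = orderOf (u₀ * u₁) := by
      rw [hedef]; simpa using MulEquiv.orderOf_eq (MulAut.conj τ) (u₀ * u₁)
    rw [this]; exact hodd
  -- a nontrivial element of `T` centralizing `e`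
  obtain ⟨t₂, ht₂, hh, hhH, hfac⟩ := S.fact u
  obtain ⟨t', ht', h, hhH', hu'⟩ : ∃ t' ∈ (T : Subgroup X), ∃ h ∈ H, u = h * t' := by
    refine ⟨t₂⁻¹, inv_mem ht₂, hh⁻¹, inv_mem hhH, ?_⟩
    rw [← mul_inv_rev, ← hfac]
    exact (inv_eq_of_mul_eq_one_right huu).symm
  set g := h⁻¹ * u with hgdef
  have hgM : g ∈ M := by
    rw [hgdef, hu', inv_mul_cancel_left]; exact le_normalizer' ht'
  have hgeH : g * e * g⁻¹ ∈ H := by
    rw [hgdef, show h⁻¹ * u * e * (h⁻¹ * u)⁻¹ = h⁻¹ * (u * e * u⁻¹) * h by group, hue]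
    exact mul_mem (mul_mem (inv_mem hhH') (inv_mem hτe)) hhH'
  have hgT : g ∈ (T : Subgroup X) := by rw [hgdef, hu', inv_mul_cancel_left]; exact ht'
  have hg1 : g ≠ 1 := fun h1 => by
    have huH : u ∈ H := by
      rw [hgdef, inv_mul_eq_one] at h1
      exact h1 ▸ hhH'
    have h2 : orderOf u ∣ 2 := orderOf_dvd_of_pow_eq_one (by rw [pow_two]; exact huu)
    have h3 : orderOf u = 1 := Nat.eq_one_of_dvd_coprimes
      (Nat.coprime_two_right.2 (S.odd_orderOf huH)) dvd_rfl h2
    exact huM (by rw [orderOf_eq_one_iff.1 h3]; exact one_mem _)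
  have hge : Commute g e := by
    refine commutatorElement_eq_one_iff_mul_comm.1 (S.disj _ ?_ ?_)
    · rw [commutatorElement_def, mul_assoc, mul_assoc]
      refine mul_mem hgT ?_
      rw [← mul_assoc]
      exact (Subgroup.mem_normalizer_iff.1 heM g⁻¹).1 (inv_mem hgT)
    · rw [commutatorElement_def]
      exact mul_mem hgeH (inv_mem hτe)
  obtain ⟨k, hk1, hkk⟩ := S.exists_involution hT hgT hg1
  set z := g ^ k with hzdef
  have hzT : z ∈ (T : Subgroup X) := pow_mem hgT k
  have hze : Commute z e := hge.pow_left k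
  -- the fixed points of `e`
  set F := Finset.univ.filter fun Q : Sylow 2 X => e • Q = Q with hF
  have hTF : T ∈ F := Finset.mem_filter.2 ⟨Finset.mem_univ _, smul_eq_self_iff.2 heM⟩
  have hFodd : Odd F.card := by
    have h1 : Even (F.erase T).card := by
      refine even_card_of_involutive _ (fun Q => z • Q) (fun Q hQ => ?_) (fun Q _ => ?_)
        (fun Q hQ => ?_)
      · obtain ⟨hQT, hQF⟩ := Finset.mem_erase.1 hQ
        refine Finset.mem_erase.2 ⟨fun e1 => hQT ?_, Finset.mem_filter.2 ⟨Finset.mem_univ _, ?_⟩⟩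
        · have h2 := congrArg (fun Q => z • Q) e1
          simp only [← mul_smul, hkk, one_smul] at h2
          rw [h2]
          exact smul_eq_self_iff.2 (le_normalizer' hzT)
        · rw [← mul_smul, ← hze.eq, mul_smul, (Finset.mem_filter.1 hQF).2]
      · rw [← mul_smul, hzdef, hkk, one_smul]
      · exact fun e1 => (Finset.mem_erase.1 hQ).1 (S.fixed_unique hzT hk1 hkk e1)
    rw [← Finset.card_erase_add_one hTF]
    exact h1.add_one
  obtain ⟨Q, hQF, huQ⟩ : ∃ Q ∈ F, u • Q = Q := by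
    by_contra hno
    push Not at hno
    refine Nat.not_even_iff_odd.2 hFodd (even_card_of_involutive F (fun Q => u • Q) (fun Q hQ => ?_)
      (fun Q _ => by rw [← mul_smul, huu, one_smul]) hno)
    refine Finset.mem_filter.2 ⟨Finset.mem_univ _, ?_⟩
    have h1 : e * u = u * e⁻¹ := by
      have h2 : u * e⁻¹ * u⁻¹ = e := by
        rw [show u * e⁻¹ * u⁻¹ = (u * e * u⁻¹)⁻¹ by group, hue, inv_inv]
      calc e * u = (u * e⁻¹ * u⁻¹) * u := by rw [h2]
        _ = u * e⁻¹ := by group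
    have h3 : e⁻¹ • Q = Q := by
      rw [inv_smul_eq_iff]; exact (Finset.mem_filter.1 hQ).2.symm
    rw [← mul_smul, h1, mul_smul, h3]
  have huQ' : u ∈ (Q : Subgroup X) := mem_of_normalizer (Sylow.smul_eq_iff_mem_normalizer.1 huQ) huu
  have heQ : e ∈ Subgroup.normalizer ((Q : Subgroup X) : Set X) :=
    Sylow.smul_eq_iff_mem_normalizer.1 (Finset.mem_filter.1 hQF).2
  have hee : e * e ∈ (Q : Subgroup X) := by
    have h2 : e * u * e⁻¹ * u⁻¹ ∈ (Q : Subgroup X) :=
      mul_mem ((Subgroup.mem_normalizer_iff.1 heQ u).1 huQ') (inv_mem huQ')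
    have h3 : u * e⁻¹ * u⁻¹ = e := by
      rw [show u * e⁻¹ * u⁻¹ = (u * e * u⁻¹)⁻¹ by group, hue, inv_inv]
    rwa [show e * u * e⁻¹ * u⁻¹ = e * (u * e⁻¹ * u⁻¹) by group, h3] at h2
  have h4 : e * e = 1 := CfsgLib.LocalP.eq_one_of_mem_of_coprime Q.isPGroup' hee
    ((Nat.coprime_two_right.2 heodd).coprime_dvd_left (by
      rw [← pow_two]
      exact orderOf_dvd_of_mem_zpowers (Subgroup.npow_mem_zpowers e 2)))
  exact he1 (orderOf_eq_one_iff.1 (Nat.eq_one_of_dvd_coprimes (Nat.coprime_two_right.2 heodd) dvd_rfl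
    (orderOf_dvd_of_pow_eq_one (by rw [pow_two]; exact h4))))

end CfsgLib.AbelianTwoPower
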