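import Cfsg.Agent.AbelianTwoPower.Complement
import Cfsg.Agent.S0205

/-!
A subgroup of 2-power index of a perfect group with abelian Sylow 2-subgroups is the whole group,
and a perfect group with abelian Sylow subgroups has trivial centre.
-/

set_option autoImplicit false

universe u

namespace CfsgLib.AbelianTwoPower

/-- The Sylow 2-subgroups are abelian. -/
def AbTwo (X : Type u) [Group X] : Prop :=
  ∀ P : Sylow 2 X, ∀ a ∈ (P : Subgroup X), ∀ b ∈ (P : Subgroup X), Commute a b

theorem AbTwo.subgroup {X : Type u} [Group X] (h : AbTwo X) (N : Subgroup X) : AbTwo N := by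
  intro P a ha b hb
  obtain ⟨Q, hQ⟩ := (P.isPGroup'.map N.subtype).exists_le_sylow
  exact Subtype.ext (h Q _ (hQ ⟨a, ha, rfl⟩) _ (hQ ⟨b, hb, rfl⟩)).eq

theorem AbTwo.quotient {X : Type u} [Group X] [Finite X] (h : AbTwo X) (N : Subgroup X) [N.Normal] :
    AbTwo (X ⧸ N) := by
  haveI : Fact (Nat.Prime 2) := ⟨Nat.prime_two⟩
  intro P a ha b hb
  obtain ⟨P₀⟩ : Nonempty (Sylow 2 X) := inferInstance
  obtain ⟨g, hg⟩ := MulAction.exists_smul_eq (X ⧸ N)
    (P₀.mapSurjective (QuotientGroup.mk'_surjective N)) P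
  obtain ⟨g₀, rfl⟩ := QuotientGroup.mk'_surjective N g
  have key : ∀ c ∈ (P : Subgroup (X ⧸ N)), ∃ c₀ ∈ ((g₀ • P₀ : Sylow 2 X) : Subgroup X),
      QuotientGroup.mk' N c₀ = c := by
    intro c hc
    rw [← hg, Sylow.coe_subgroup_smul, Sylow.coe_mapSurjective,
      Subgroup.mem_pointwise_smul_iff_inv_smul_mem] at hc
    obtain ⟨c₁, hc₁, he⟩ := hc
    refine ⟨g₀ * c₁ * g₀⁻¹, ?_, ?_⟩
    · rw [Sylow.coe_subgroup_smul]
      exact Subgroup.smul_mem_pointwise_smul c₁ (MulAut.conj g₀) _ hc₁
    · rw [map_mul, map_mul, map_inv, he]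
      simp [mul_assoc]
  obtain ⟨a₀, ha₀, rfl⟩ := key a ha
  obtain ⟨b₀, hb₀, rfl⟩ := key b hb
  exact (h _ a₀ ha₀ b₀ hb₀).map _

/-- **A group with abelian Sylow 2-subgroups and an odd subgroup of 2-power index is solvable.** -/
theorem isSolvable_of_odd_complement (n : ℕ) : ∀ (X : Type u) [Group X] [Finite X],
    Nat.card X = n → AbTwo X → ∀ H : Subgroup X, Odd (Nat.card H) → (∃ k, H.index = 2 ^ k) →
    Group.IsSolvable X := by
  induction n using Nat.strong_induction_on with
  | _ n ih =>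
  intro X _ _ hcard hab H hodd ⟨k, hk⟩
  haveI : Fact (Nat.Prime 2) := ⟨Nat.prime_two⟩
  by_cases hex : ∃ N : Subgroup X, N.Normal ∧ N ≠ ⊥ ∧ N ≠ ⊤
  · obtain ⟨N, hN, hb, ht⟩ := hex
    have hlt : Nat.card N < n := by
      rw [← hcard]
      exact lt_of_le_of_ne (Subgroup.card_le_card_group N)
        fun e => ht (Subgroup.eq_top_of_card_eq N e)
    have h1 : Group.IsSolvable N := by
      refine ih _ hlt N rfl (hab.subgroup N) (H.subgroupOf N) ?_ ?_
      · refine hodd.of_dvd_nat ?_
        rw [← Subgroup.card_map_of_injective N.subtype_injective, Subgroup.subgroupOf_map_subtype]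
        exact Subgroup.card_dvd_of_le inf_le_left
      · obtain ⟨j, -, hj⟩ := (Nat.dvd_prime_pow Nat.prime_two).1
          (hk ▸ CfsgLib.PCompl.relIndex_dvd_index_of_normal H N)
        exact ⟨j, hj⟩
    have hqlt : Nat.card (X ⧸ N) < n := by
      rw [← hcard, N.card_eq_card_quotient_mul_card_subgroup]
      refine lt_mul_of_one_lt_right Nat.card_pos ?_
      by_contra h1'
      exact hb (Subgroup.eq_bot_of_card_le N (not_lt.1 h1'))
    have h2 : Group.IsSolvable (X ⧸ N) := by
      refine ih _ hqlt (X ⧸ N) rfl (hab.quotient N) (H.map (QuotientGroup.mk' N)) ?_ ?_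
      · exact hodd.of_dvd_nat (Subgroup.card_map_dvd H _)
      · obtain ⟨j, -, hj⟩ := (Nat.dvd_prime_pow Nat.prime_two).1
          (hk ▸ H.index_map_dvd (QuotientGroup.mk'_surjective N))
        exact ⟨j, hj⟩
    exact Group.isSolvable_of_ker_le_range N.subtype (QuotientGroup.mk' N)
      (by rw [QuotientGroup.ker_mk', Subgroup.range_subtype])
  push Not at hex
  by_contra hns
  obtain ⟨T⟩ : Nonempty (Sylow 2 X) := inferInstance
  have hH2 : ¬ 2 ∣ Nat.card H := fun hd => Nat.not_even_iff_odd.2 hodd (even_iff_two_dvd.2 hd)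
  have hTc : Nat.card (T : Subgroup X) = 2 ^ k := by
    rw [T.card_eq_multiplicity, ← H.card_mul_index, hk,
      Nat.factorization_mul Nat.card_pos.ne' (by positivity)]
    simp [Nat.factorization_eq_zero_of_not_dvd hH2,
      Nat.Prime.factorization_pow Nat.prime_two]
  have hTbot : (T : Subgroup X) ≠ ⊥ := by
    intro hT
    rw [hT, Subgroup.card_bot] at hTc
    rw [← hTc, Subgroup.index_eq_one] at hk
    exact hns (Cfsg.Agent.S0205.result (by
      rwa [hk, Subgroup.card_top] at hodd))
  have hTn : ¬ (T : Subgroup X).Normal := by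
    intro hTn
    have htop : (T : Subgroup X) = ⊤ := hex _ hTn hTbot
    haveI : Group.IsNilpotent (T : Subgroup X) := T.isPGroup'.isNilpotent
    exact hns (Group.isSolvable_of_surjective (f := (T : Subgroup X).subtype)
      fun x => ⟨⟨x, htop ▸ Subgroup.mem_top x⟩, rfl⟩)
  have hcompl : Subgroup.IsComplement' (T : Subgroup X) H := by
    refine Subgroup.isComplement'_of_coprime ?_ ?_
    · rw [hTc, ← hk, mul_comm, Subgroup.card_mul_index]
    · rw [hTc]; exact ((Nat.Prime.coprime_iff_not_dvd Nat.prime_two).2 hH2).pow_left k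
  have hfact : ∀ g : X, ∃ t ∈ (T : Subgroup X), ∃ h ∈ H, g = t * h := fun g => by
    obtain ⟨⟨⟨t, ht⟩, ⟨h, hh⟩⟩, he⟩ := hcompl.2 g
    exact ⟨t, ht, h, hh, he.symm⟩
  have hdisj : ∀ g : X, g ∈ (T : Subgroup X) → g ∈ H → g = 1 := fun g h1 h2 =>
    Subgroup.mem_bot.1 (hcompl.disjoint.le_bot ⟨h1, h2⟩)
  have S : Setup T H := by
    refine ⟨hab T, hodd, hfact, hdisj, fun s hs hs1 => ?_, hTn⟩
    set C := Subgroup.centralizer ({s} : Set X) with hCdef
    have hTC : (T : Subgroup X) ≤ C := fun a ha =>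
      Subgroup.mem_centralizer_singleton_iff.2 (hab T a ha s hs).eq
    have hCtop : C ≠ ⊤ := by
      intro htop
      have hz : s ∈ Subgroup.center X := Subgroup.mem_center_iff.2 fun g =>
        Subgroup.mem_centralizer_singleton_iff.1 ((hCdef ▸ htop).ge (Subgroup.mem_top g))
      have htop' : Subgroup.center X = ⊤ := hex _ inferInstance fun hb =>
        hs1 (Subgroup.mem_bot.1 (hb ▸ hz))
      exact hns (Group.isSolvable_of_comm fun a b =>
        Subgroup.mem_center_iff.1 (htop' ▸ Subgroup.mem_top b) a)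
    set A := H.subgroupOf C
    set T' := (T : Subgroup X).subgroupOf C
    have hcC : Subgroup.IsComplement' T' A := by
      refine Subgroup.isComplement'_of_disjoint_and_mul_eq_univ (disjoint_iff.2 ?_) ?_
      · rw [eq_bot_iff]
        intro a ha
        obtain ⟨h1, h2⟩ := Subgroup.mem_inf.1 ha
        exact Subgroup.mem_bot.2 (Subtype.ext (hdisj a h1 h2))
      · refine Set.eq_univ_of_forall fun c => ?_
        obtain ⟨t, ht, h, hh, he⟩ := hfact c
        have hhC : h ∈ C := by
          rw [show h = t⁻¹ * (c : X) by rw [he, inv_mul_cancel_left]]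
          exact mul_mem (inv_mem (hTC ht)) c.2
        exact ⟨⟨t, hTC ht⟩, ht, ⟨h, hhC⟩, hh, Subtype.ext he.symm⟩
    have hA2 : ¬ 2 ∣ Nat.card A := fun hd => hH2 (hd.trans (by
      rw [← Subgroup.card_map_of_injective C.subtype_injective, Subgroup.subgroupOf_map_subtype]
      exact Subgroup.card_dvd_of_le inf_le_left))
    have hAi : A.index = 2 ^ k := by
      rw [hcC.index_eq_card, ← hTc]
      exact Nat.card_congr (Subgroup.subgroupOfEquivOfLe hTC).toEquiv
    have hsolC : Group.IsSolvable C := by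
      refine ih _ ?_ C rfl (hab.subgroup C) A ?_ ⟨k, hAi⟩
      · rw [← hcard]
        exact lt_of_le_of_ne (Subgroup.card_le_card_group C)
          fun e => hCtop (Subgroup.eq_top_of_card_eq C e)
      · rw [← Nat.not_even_iff_odd, even_iff_two_dvd]; exact hA2
    have hO : Cfsg.pPrimeCore 2 C = ⊥ := by
      set N := Cfsg.pPrimeCore 2 C
      haveI : N.Normal := by
        exact Subgroup.normalizer_eq_top_iff.1 (eq_top_iff.2 fun g _ =>
          Subgroup.mem_normalizer_iff_map_conj_eq.2
            (CfsgLib.Constrained.pPrimeCore_map (MulAut.conj g) 2))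
      have h2 : ¬ 2 ∣ Nat.card (N ⊔ A : Subgroup C) :=
        CfsgLib.Constrained.not_dvd_card_sup CfsgLib.Constrained.pPrimeCore_not_dvd hA2
      have hle : N ≤ A := by
        have h3 : Nat.card (N ⊔ A : Subgroup C) ∣ Nat.card A := by
          have h4 : Nat.card (N ⊔ A : Subgroup C) ∣ Nat.card A * 2 ^ k := by
            rw [← hAi, Subgroup.card_mul_index]
            exact Subgroup.card_subgroup_dvd_card _
          exact (((Nat.Prime.coprime_iff_not_dvd Nat.prime_two).2 h2).symm.pow_right k).dvd_of_dvd_mul_right h4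
        have := Subgroup.eq_of_le_of_card_ge (le_sup_right : A ≤ N ⊔ A)
          (Nat.le_of_dvd Nat.card_pos h3)
        exact le_sup_left.trans this.ge
      rw [eq_bot_iff]
      intro a ha
      rw [Subgroup.mem_bot]
      by_contra ha1
      have hcl : Subgroup.normalClosure ({(a : X)} : Set X) ≤ H := by
        refine (Subgroup.closure_le _).2 fun b hb => ?_
        obtain ⟨a', ha', hab'⟩ := Group.mem_conjugatesOfSet_iff.1 hb
        rw [Set.mem_singleton_iff] at ha'
        subst ha'
        obtain ⟨c, rfl⟩ := isConj_iff.1 hab'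
        obtain ⟨t, ht, h, hh, he⟩ := hfact c⁻¹
        have hc : c = h⁻¹ * t⁻¹ := by rw [← mul_inv_rev, ← he, inv_inv]
        have h5 : (t⁻¹ * (a : X) * t⁻¹⁻¹) ∈ H := hle
          (Subgroup.Normal.conj_mem inferInstance a ha ⟨t⁻¹, inv_mem (hTC ht)⟩)
        rw [hc, show h⁻¹ * t⁻¹ * (a : X) * (h⁻¹ * t⁻¹)⁻¹ = h⁻¹ * (t⁻¹ * (a : X) * t⁻¹⁻¹) * h by group]
        exact mul_mem (mul_mem (inv_mem hh) h5) hh
      have h6 : Subgroup.normalClosure ({(a : X)} : Set X) = ⊤ := by
        refine hex _ Subgroup.normalClosure_normal fun hb => ha1 ?_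
        exact Subtype.ext (Subgroup.mem_bot.1
          (hb ▸ Subgroup.subset_normalClosure (Set.mem_singleton _)))
      rw [h6, top_le_iff] at hcl
      rw [hcl, Subgroup.index_top] at hk
      rw [← hk] at hTc
      exact hTbot (Subgroup.eq_bot_of_card_eq _ hTc)
    haveI := hsolC
    have hCC := CfsgLib.Constrained.centralizer_pCore_le_of (G := C) (p := 2) hO
      (CfsgLib.Constrained.isPSolvable_of_isSolvable)
    have hT'p : IsPGroup 2 T' :=
      (T.isPGroup').comap_of_injective C.subtype C.subtype_injective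
    obtain ⟨P, hP⟩ := hT'p.exists_le_sylow
    have hPT : (P : Subgroup C) ≤ T' := by
      intro a ha
      obtain ⟨Q, hQ⟩ := (P.isPGroup'.map C.subtype).exists_le_sylow
      have hTQ : (T : Subgroup X) ≤ Q := fun b hb => hQ ⟨⟨b, hTC hb⟩, hP hb, rfl⟩
      exact (T.3 Q.isPGroup' hTQ).le (hQ ⟨a, ha, rfl⟩)
    have hcore : Cfsg.pCore 2 C ≤ T' := by
      haveI : (Cfsg.pCore 2 C).Normal := Cfsg.pCore_normal 2 C
      have hsup : IsPGroup 2 (Cfsg.pCore 2 C ⊔ (P : Subgroup C) : Subgroup C) :=
        CfsgLib.Constrained.isPGroup_pCore.to_sup_of_normal_left P.isPGroup'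
      exact le_sup_left.trans ((P.3 hsup le_sup_right).le.trans hPT)
    have hTcore : T' ≤ Cfsg.pCore 2 C := le_trans (fun a ha => Subgroup.mem_centralizer_iff.2
      fun b hb => Subtype.ext (hab T _ (hcore hb) _ ha).eq) hCC
    have hTnor : T'.Normal := le_antisymm hTcore hcore ▸ Cfsg.pCore_normal 2 C
    exact (Subgroup.normal_subgroupOf_iff_le_normalizer hTC).1 hTnor
  refine S.false hTbot fun hMC => ?_
  have hK := MonoidHom.ker_transferSylow_isComplement' T hMC
  by_cases hb : (MonoidHom.transferSylow T hMC).ker = ⊥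
  · rw [hb] at hK
    exact hTn (by
      rw [(Subgroup.isComplement'_bot_left.1 hK)]
      infer_instance)
  · have ht := hex _ inferInstance hb
    rw [ht] at hK
    exact hTbot (Subgroup.isComplement'_top_left.1 hK)

/-- **A perfect group with abelian Sylow 2-subgroups has no proper subgroup of 2-power index.** -/
theorem eq_top_of_two_power_index {K : Type u} [Group K] [Finite K] (hK : commutator K = ⊤)
    (hab : AbTwo K) (H : Subgroup K) {k : ℕ} (hk : H.index = 2 ^ k) : H = ⊤ := by
  classical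
  haveI : Fact (Nat.Prime 2) := ⟨Nat.prime_two⟩
  haveI := Fintype.ofFinite K
  obtain ⟨P₀⟩ : Nonempty (Sylow 2 H) := inferInstance
  obtain ⟨T, hT⟩ := (P₀.isPGroup'.map H.subtype).exists_le_sylow
  set U := Finset.univ.filter fun g : K => ∃ t ∈ (T : Subgroup K), ∃ h ∈ H, g = t * h with hU
  have hUcard := CfsgLib.ThreeSizes.card_mul_le_of_stable (N := H) T.isPGroup' 1 U
    fun t ht h hh => Finset.mem_filter.2 ⟨Finset.mem_univ _, t, ht, h, hh, by rw [mul_one]⟩
  have hUtop : ∀ g : K, ∃ t ∈ (T : Subgroup K), ∃ h ∈ H, g = t * h := by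
    have hcT : Nat.card (T : Subgroup K) = 2 ^ ((Nat.card H).factorization 2) * H.index := by
      rw [T.card_eq_multiplicity, ← H.card_mul_index, hk,
        Nat.factorization_mul Nat.card_pos.ne' (by positivity)]
      simp [Nat.Prime.factorization_pow Nat.prime_two, pow_add]
    rw [hcT, mul_assoc, mul_comm H.index, Subgroup.card_mul_index, mul_comm U.card] at hUcard
    have h1 : Nat.card K ≤ U.card := Nat.le_of_mul_le_mul_left hUcard (pow_pos two_pos _)
    rw [Nat.card_eq_fintype_card] at h1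
    have h2 : U = Finset.univ := Finset.eq_univ_of_card U (le_antisymm (Finset.card_le_univ U) h1)
    intro g
    exact (Finset.mem_filter.1 (h2.symm ▸ Finset.mem_univ g : g ∈ U)).2
  set N := H.normalCore with hN
  have hsub : (P₀ : Subgroup H).map H.subtype ≤ N := by
    intro a ha x
    obtain ⟨t, ht, h, hh, he⟩ := hUtop x⁻¹
    have hx : x = h⁻¹ * t⁻¹ := by rw [← mul_inv_rev, ← he, inv_inv]
    have hta : t⁻¹ * a * t = a := by
      rw [mul_assoc, (hab T a (hT ha) t ht).eq, inv_mul_cancel_left]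
    rw [hx, show h⁻¹ * t⁻¹ * a * (h⁻¹ * t⁻¹)⁻¹ = h⁻¹ * (t⁻¹ * a * t) * h by group, hta]
    exact mul_mem (mul_mem (inv_mem hh) (Subgroup.map_subtype_le _ ha)) hh
  let π := QuotientGroup.mk' N
  have hNH : N ≤ H := Subgroup.normalCore_le H
  have hodd : Odd (Nat.card (H.map π)) := by
    have h1 : Nat.card (H.map π) ∣ Nat.card H := Subgroup.card_map_dvd H _
    rw [← Nat.not_even_iff_odd, even_iff_two_dvd]
    intro h2
    have hcard : Nat.card H = Nat.card (H.map π) * Nat.card N := by
      have h3 := (H.map π).card_mul_index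
      rw [H.index_map_eq (QuotientGroup.mk'_surjective N) (by rwa [QuotientGroup.ker_mk'])] at h3
      have h4 := N.card_eq_card_quotient_mul_card_subgroup
      rw [← h3, ← H.card_mul_index] at h4
      refine Nat.eq_of_mul_eq_mul_right (Nat.pos_of_ne_zero (Subgroup.index_ne_zero_of_finite (H := H))) ?_
      rw [h4]; ring
    have h5 : 2 ^ (Nat.card H).factorization 2 ∣ Nat.card N := by
      have := Subgroup.card_dvd_of_le hsub
      rwa [Subgroup.card_map_of_injective H.subtype_injective, P₀.card_eq_multiplicity] at this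
    have h6 : 2 ^ ((Nat.card H).factorization 2 + 1) ∣ Nat.card H := by
      rw [pow_succ']
      calc 2 * 2 ^ (Nat.card H).factorization 2 ∣ Nat.card (H.map π) * Nat.card N :=
            Nat.mul_dvd_mul h2 h5
        _ = Nat.card H := hcard.symm
    have := (Nat.prime_two.pow_dvd_iff_le_factorization Nat.card_pos.ne').1 h6
    omega
  haveI hsol : Group.IsSolvable (K ⧸ N) := isSolvable_of_odd_complement _ (K ⧸ N) rfl
    (hab.quotient N) (H.map π) hodd
    ⟨k, by rw [H.index_map_eq (QuotientGroup.mk'_surjective N) (by rwa [QuotientGroup.ker_mk']), hk]⟩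
  by_contra hH
  have hperf : commutator (K ⧸ N) = ⊤ := by
    rw [← Subgroup.map_top_of_surjective π (QuotientGroup.mk'_surjective N), ← hK]
    exact (map_derivedSeries_eq (QuotientGroup.mk'_surjective N) 1).symm
  obtain ⟨j, hj⟩ := hsol
  have hall : ∀ i, derivedSeries (K ⧸ N) i = ⊤ := by
    intro i
    induction i with
    | zero => rfl
    | succ i ih => rw [derivedSeries_succ, ih]; exact hperf
  rw [hall j] at hj
  refine hH (eq_top_iff.2 fun g _ => hNH ((QuotientGroup.eq_one_iff g).1 ?_))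
  exact Subgroup.mem_bot.1 (hj ▸ Subgroup.mem_top (g : K ⧸ N))

/-- A perfect group with abelian Sylow subgroups has trivial centre. -/
theorem center_eq_bot_of_perfect {K : Type u} [Group K] [Finite K] (hK : commutator K = ⊤)
    (hab : ∀ (p : ℕ) [Fact p.Prime] (P : Sylow p K), IsMulCommutative (P : Subgroup K)) :
    Subgroup.center K = ⊥ := by
  rw [eq_bot_iff]
  refine CfsgLib.TwoSizes.le_of_forall_pElt fun q hq z hz hzq => ?_
  haveI : Fact q.Prime := ⟨hq⟩
  obtain ⟨P, hP⟩ := (CfsgLib.ThreeSizes.isPGroup_zpowers hq hzq).exists_le_sylow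
  have hzP : z ∈ (P : Subgroup K) := hP (Subgroup.mem_zpowers z)
  letI : CommGroup (P : Subgroup K) :=
    { (inferInstance : Group (P : Subgroup K)) with
      mul_comm := fun a b => (hab q P).is_comm.comm a b }
  have key : ∀ (k : ℕ) (g₀ : K), g₀⁻¹ * z ^ k * g₀ ∈ (P : Subgroup K) →
      g₀⁻¹ * z ^ k * g₀ = z ^ k := fun k g₀ _ => by
    rw [mul_assoc, ← Subgroup.mem_center_iff.1 (pow_mem hz k) g₀, inv_mul_cancel_left]
  have h1 := MonoidHom.transfer_eq_pow (MonoidHom.id (P : Subgroup K)) z key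
  have h2 : MonoidHom.transfer (MonoidHom.id (P : Subgroup K)) z = 1 :=
    MonoidHom.mem_ker.1 ((Abelianization.commutator_subset_ker _) (hK ▸ Subgroup.mem_top z))
  rw [h2] at h1
  have h3 : z ^ (P : Subgroup K).index = 1 := (congrArg Subtype.val h1).symm
  rw [Subgroup.mem_bot, ← orderOf_eq_one_iff]
  exact Nat.eq_one_of_dvd_coprimes
    (CfsgLib.TwoRegular.IsEl.coprime hzq ((hq.coprime_iff_not_dvd).2 P.not_dvd_index))
    dvd_rfl (orderOf_dvd_of_pow_eq_one h3)

end CfsgLib.AbelianTwoPower
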